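import Cfsg.Agent.OddHalf.NI3.Assemble
import Cfsg.Agent.OddHalf.CaseM.NIOf
import Cfsg.Agent.OddHalf.CoverAlt
import Cfsg.Agent.OddHalf.D6.Final

/-!
# `CaseM.NI` and D6 (`Z(K) = 1`) from `NI3.Assemble.Left`
-/

set_option autoImplicit false

namespace Cfsg.Agent.OddHalf.Top.NIMore

open Subgroup Cfsg Cfsg.Agent.OddHalf.Iface Cfsg.Agent.OddHalf.LieOddFam

universe u

/-- THEOREM NIB in the form of `CaseM.NoU43` -/
theorem noU43_of (h : NI3.Bad.NIB.{u}) : CaseM.NoU43.{u} :=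
  fun G _ C z M hz hc hzM h2 hX => h G C z M hz (NI.Final.comp_of_compOf hc) hzM ⟨Soft.CompOf.quasisimple hc, h2, hX⟩

/-- **`CaseM.NI`** -/
theorem ni (L : NI3.Assemble.Left.{u}) : CaseM.NI.{u} :=
  CaseM.ni_of L.gw L.p1738 CoverAlt.d5cover (NI3.Assemble.noBig L) (NI3.Assemble.noThree L) L.f13c (noU43_of L.nib)

/-- **Node D6** (`Z(K) = 1`) from the six small rows over `F_3` -/
theorem d6z (L : NI3.Assemble.Left.{u}) (R : NI3.Bad.SixRows.{u}) : D6.Cut.D6z.{u} :=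
  D6.Final.d6z_of (NI3.Assemble.facts L) (NI3.Assemble.d6_row L R)

end Cfsg.Agent.OddHalf.Top.NIMore
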