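import Cfsg.Agent.OddHalf.NI.Ex.L34NoFour
import Cfsg.Agent.UGT.I34.Final

/-!
# S1765: `No44` (node NI, (EX), `L₃(4)`) from THEOREM I34 and S1311
-/

set_option autoImplicit false

namespace Cfsg.Agent.OddHalf.Top.No44

open Cfsg Cfsg.Agent.UGT.I34.Red Cfsg.Agent.UGT.I34.Cov Cfsg.Agent.UGT.I34

universe u

/-- the kind `4 × 4` is settled -/
theorem good16 (hU : ∀ (G : Type u) [Group G] [Finite G], FixBN.BTheorem.UGT G) : Good.{u} (kind' 16 4 noT) :=
  NI.Ex.L34.good16_of_simple Final.two OneEnd.settled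
    (fun _ => FourFrame.below_of_B FixBN.KnownAll.known (FourWOneA.simpleCaseB Final.two) fun G _ _ _ => hU G)
    FourMain.goodT Non.simpleCase_8' Non.simpleCase_16'

/-- **`No44`** -/
theorem no44 (hU : ∀ (G : Type u) [Group G] [Finite G], FixBN.BTheorem.UGT G) : NI.Ex.L34.No44.{u} :=
  NI.Ex.L34.no44_of (good16 hU)

end Cfsg.Agent.OddHalf.Top.No44
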