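import Cfsg.Agent.OddHalf.NI.Assemble
import Cfsg.Agent.OddHalf.NI.FrameFact
import Cfsg.Agent.OddHalf.NI.FTwo.F2
import Cfsg.Agent.OddHalf.NI.Ex.CutEX
import Cfsg.Agent.OddHalf.NI3.ThmX
import Cfsg.Agent.OddHalf.NI3.AutMThree
import Cfsg.Agent.OddHalf.NI3.Sol.Final
import Cfsg.Agent.OddHalf.NI3.FThree.Main
import Cfsg.Agent.OddHalf.NI3.Fr.Final
import Cfsg.Agent.OddHalf.NI3.Niv3b
import Cfsg.Agent.OddHalf.NI3.Ex.Cut
import Cfsg.Agent.OddHalf.NI3.Ex.Big
import Cfsg.Agent.OddHalf.NI3.Final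
import Cfsg.Agent.OddHalf.CaseM.NIOf
import Cfsg.Agent.OddHalf.CoverAlt
import Cfsg.Agent.OddHalf.D6.Final
import Cfsg.Agent.OddHalf.D9.Final
import Cfsg.Agent.KFacts.MulOdd.ThreeOdd

/-!
# Node NI over all fields of odd order: the assembly

`Given`: the listed statements (S0483, S1310, S1738, S0205) and THEOREM T; `Missing`: the facts which are not yet
theorems of this library. From them:

* `noFam`, `noFam3` : THEOREM X and THEOREM X(3);
* `facts` : `NI.Assemble.Facts`; `noBig`;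
* `niv3`, `niv3b`, `noThree` : node NI over `F_3`;
* `u2` : **U2**; `d6z` : **D6** (`Z(K) = 1`); `ni` : **`CaseM.NI`**.
-/

set_option autoImplicit false

namespace Cfsg.Agent.OddHalf.Top.NINode

open Subgroup Cfsg Cfsg.Agent.OddHalf.Iface Cfsg.Agent.OddHalf.LieOddFam
open Cfsg.Agent.OddHalf.NI.FTwo (ChartB3 S7Big)

universe u

/-- Listed statements and THEOREM T. -/
structure Given : Prop where
  /-- THEOREM T (S1310) -/
  tstmt : Cit.TStmt.{u}
  /-- S0483 -/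
  gw : RankOne.GW.{u}
  /-- S1310 -/
  p1310 : Stmts.P1310.{u}
  /-- S1738 -/
  p1738 : Stmts.P1738.{u}
  /-- S0205 -/
  ft : ∀ (X : Type u) [Group X] [Finite X], Odd (Nat.card X) → Group.IsSolvable X

/-- The facts about node NI which are not yet theorems. -/
structure Missing : Prop where
  /-- (C3) of (F2'₃) -/
  small : NI3.FThree.SmallFalse.{u}
  /-- the rows of (EX) -/
  ex : NI.Ex.RowsEX.{u}
  /-- the rows of (EX3) -/
  ex3 : NI3.Ex.Rows3.{u}
  f13 : NI3.F13.{u}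
  f13c : NI3.F13c.{u}
  /-- `2.U₄(3)` -/
  nib : CaseM.NoU43.{u}

/-- a group of odd order is solvable: every finite group has the Feit-Thompson property -/
theorem Given.hFT (g : Given.{u}) (G : Type u) [Group G] [Finite G] : D3.FT G := fun K hK => g.ft ↥K hK

/-! ### The charts -/

theorem autM : NI.AutM.{u} S7Big := by
  rintro N _ _ c d A B A' ⟨F, _, _, -, H⟩ α hA hB hA'
  exact NI.PosStd.aut_sq H α hA hB hA'

theorem sol : NI.Sol.{u} S7Big :=
  NI3.Sol.sol_of fun _ _ _ _ _ _ _ _ ⟨F, i, j, _, H⟩ => ⟨F, i, j, H⟩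

/-- `S7` over the field with three elements. -/
def S7Three : ∀ (N : Type u) [Group N], N → N → Subgroup N → Subgroup N → Subgroup N → Prop :=
  fun N _ c d A B A' => ChartB3 (ZMod 3) N c d A B A'

theorem autM3 : NI3.AutM3.{u} S7Three :=
  NI3.AutMThree.autM3_of fun _ _ _ _ _ _ _ _ H => ⟨ZMod 3, inferInstance, inferInstance, H⟩

theorem sol3 : NI3.Sol3.{u} S7Three :=
  NI3.Sol.sol3_of fun _ _ _ _ _ _ _ _ H => ⟨ZMod 3, inferInstance, inferInstance, H⟩

/-! ### THEOREM X, THEOREM X(3) -/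

/-- **THEOREM X** -/
theorem noFam (g : Given.{u}) : ∀ (G : Type u) [Group G], Ctx G → NI.NoFam G :=
  NI.noFam (NI.FTwo.f2' g.tstmt) autM sol (NI.Assemble.lieCl g.p1310) g.ft

/-- **THEOREM X(3)** -/
theorem noFam3 (g : Given.{u}) (hS : NI3.FThree.SmallFalse.{u}) :
    ∀ (G : Type u) [Group G], Ctx G → NI3.NoFam3 G :=
  NI3.noFam3 (S7 := S7Three) g.tstmt (NI3.FThree.f23a_of g.tstmt hS) (NI3.FThree.f23b_of g.tstmt hS) autM3 sol3 g.ft

/-! ### Node NI, `q > 3` -/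

/-- **(EX)** -/
theorem ex (g : Given.{u}) (R : NI.Ex.RowsEX.{u}) : NI.EX.{u} :=
  NI.Ex.ex_of g.gw g.p1738 CoverAlt.d5cover D9.Final.mult R

/-- the facts used by node NI, `q > 3` -/
theorem facts (g : Given.{u}) (m : Missing.{u}) : NI.Assemble.Facts.{u} S7Big where
  frame := NI.FrameFact.frameFact
  f2 := NI.FTwo.f2' g.tstmt
  autM := autM
  sol := sol
  p1310 := g.p1310
  ex := ex g m.ex
  ni3 := NI3.ni3 NI3.Fr.frameFact3 (noFam3 g m.small)
  ft := g.ft

/-- **Node NI, `q > 3`.** -/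
theorem noBig (g : Given.{u}) (m : Missing.{u}) : NI.NoBig.{u} := NI.Assemble.noBig_of (facts g m)

/-! ### Node NI over the field with three elements -/

/-- `NIV3` -/
theorem niv3 (g : Given.{u}) (m : Missing.{u}) : NI3.NIV3.{u} :=
  NI3.niv3 g.hFT (noFam g) (noFam3 g m.small) NI.FrameFact.frameFact NI3.Fr.frameFact3
    (fun _ _ h1 h2 h3 h4 => U2.MultOf.ree ⟨h1, h2, h3, h4⟩)
    (NI3.Ex.ex3 g.gw g.p1738 CoverAlt.d5cover D9.Final.mult m.ex3)

/-- `NIV3b` -/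
theorem niv3b (g : Given.{u}) (m : Missing.{u}) : NI3.NIV3b.{u} :=
  NI3.niv3b g.hFT (noFam g) (noFam3 g m.small) NI.FrameFact.frameFact NI3.Fr.frameFact3
    (fun _ _ h1 h2 h3 h4 => U2.MultOf.ree ⟨h1, h2, h3, h4⟩)
    (NI3.Ex.Big.ex3b g.gw g.p1738 CoverAlt.d5cover D9.Final.mult)

/-- **Node NI over `F_3`.** -/
theorem noThree (g : Given.{u}) (m : Missing.{u}) : NI3.NoThree.{u} :=
  NI3.Final.noThree (NI.Assemble.niv_of (facts g m)) (niv3 g m) (niv3b g m)

/-! ### The nodes -/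

/-- `U2.Cut.ThreeEven` -/
theorem u2_even (g : Given.{u}) (m : Missing.{u}) : U2.Cut.ThreeEven.{u} :=
  NI3.Final.u2_even (noThree g m) m.f13c (CaseM.rowU43_of m.nib)

/-- **Node U2.** -/
theorem u2 (g : Given.{u}) (m : Missing.{u}) : Iface.U2.{u} :=
  NI.Assemble.u2_of (facts g m) (NI3.Final.u2_three (noThree g m) m.f13c (CaseM.rowU43_of m.nib)
    KFacts.MulOdd.ThreeOdd.threeOdd)

/-- **Node D6** (`Z(K) = 1`) from the small groups over `F_3`. -/
theorem d6z (g : Given.{u}) (m : Missing.{u}) (hs : D6.Cut.Row.{u} (fun X _ => NI3.Small3 X)) : D6.Cut.D6z.{u} :=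
  D6.Final.d6z_of (facts g m) (NI3.Final.d6_three (noThree g m) m.f13 hs)

/-- **`CaseM.NI`.** -/
theorem ni (g : Given.{u}) (m : Missing.{u}) : CaseM.NI.{u} :=
  CaseM.ni_of g.gw g.p1738 CoverAlt.d5cover (noBig g m) (noThree g m) m.f13c m.nib

end Cfsg.Agent.OddHalf.Top.NINode
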