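import Cfsg.Agent.OddHalf.NI3.Assemble
import Cfsg.Agent.OddHalf.NI3.FThree.C3Small
import Cfsg.Agent.OddHalf.CoverAlt
import Cfsg.Agent.OddHalf.D9.Final
import Cfsg.Agent.S0205
import Cfsg.Agent.S0483
import Cfsg.Agent.S1173
import Cfsg.Agent.S1738

/-!
# Node NI, all odd `q`: what is really open (helper656)

`left : Open → NI3.Assemble.Left`: the fields which are theorems on main are plugged.
-/

set_option autoImplicit false

namespace Cfsg.Agent.OddHalf.Top.NIOpen

open Subgroup Cfsg Cfsg.Agent.OddHalf.Iface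

universe u

/-- What is open in node NI. -/
structure Open : Prop where
  /-- THEOREM T -/
  tst : Cit.TStmt.{u}
  p1310 : Stmts.P1310.{u}
  /-- (EX) -/
  xrows : NI.Ex.Final.XRows.{u}
  no44 : NI.Ex.L34.No44.{u}
  /-- (EX3) -/
  rows3 : NI3.Ex.Rows3.{u}
  f13 : NI3.F13.{u}
  f13c : NI3.F13c.{u}
  nib : NI3.Bad.NIB.{u}

theorem h1173 : ∀ (G : Type u) [Group G] [Finite G], oddCore G = ⊥ → Cit.OneF.H1173 G :=
  fun _ _ _ ho S T hT => S1173.result ho S T hT

theorem left (O : Open.{u}) : NI3.Assemble.Left.{u} where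
  tst := O.tst
  sf := NI3.FThree.smallFalse_of h1173 O.tst
  p1310 := O.p1310
  gw := fun _ _ _ _ S n hn hS => S0483.result S n hn hS
  p1738 := fun {_} _ _ hO hF t ht K hK htK n hn h => S1738.result hO hF t ht K hK htK n hn h
  d5 := CoverAlt.d5cover
  mult := D9.Final.mult
  xrows := O.xrows
  no44 := O.no44
  rows3 := O.rows3
  ft := fun _ _ _ h => S0205.result h
  f13 := O.f13
  f13c := O.f13c
  nib := O.nib

end Cfsg.Agent.OddHalf.Top.NIOpen
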