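import Cfsg.Agent.OddHalf.Top.NI
import Cfsg.Agent.OddHalf.NI3.Bad.UseD4
import Cfsg.Agent.OddHalf.NI3.K.OrthU

/-!
# The rows over the field with three elements of D6 and D4: the assembly (helper656)

From `NINode.Given`, `NINode.Missing` (`nib` included, in either form: `noU43_of`, `nib_of`):

* `d6z` : **D6** (`Z(K) = 1`) from the six rows `L₃(3)`, `U₃(3)`, `L₄(3)`, `U₄(3)`, `PSp₄(3)`, `G₂(3)`; `d6Three`;
* `d4_row` : the row `Rk K 3` of D4 from the row of the six small groups.
-/

set_option autoImplicit false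

namespace Cfsg.Agent.OddHalf.Top.NINode

open Subgroup Cfsg Cfsg.Agent.OddHalf.Iface Cfsg.Agent.OddHalf.LieOddFam

universe u

theorem noU43_of (h : NI3.Bad.NIB.{u}) : CaseM.NoU43.{u} :=
  fun G _ C z M hz hM hzM h2 hU => h G C z M hz (NI.Final.comp_of_compOf hM) hzM ⟨Soft.CompOf.quasisimple hM, h2, hU⟩

theorem nib_of (h : CaseM.NoU43.{u}) : NI3.Bad.NIB.{u} :=
  fun G _ C y N hy hN hyN hU => h G C y N hy (NI.Final.compOf_of_comp hN) hyN hU.2.1 hU.2.2

/-- the input of the consumers of NIB -/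
theorem badGiven (g : Given.{u}) (m : Missing.{u}) : NI3.Bad.Given.{u} where
  ft := g.hFT
  noThree := noThree g m
  noBig := noBig g m
  f13c := m.f13c
  gw := g.gw
  p1738 := g.p1738
  d5 := CoverAlt.d5cover
  mult := D9.Final.mult
  rows3 := m.ex3

/-- no component of an involution centralizer contains a component `2.U₄(3) ∋ y` of the centralizer of `y` -/
theorem noU (g : Given.{u}) (m : Missing.{u}) : NI3.Bad.NoU.{u} := NI3.Bad.noU (badGiven g m) (nib_of m.nib)

theorem nodes (g : Given.{u}) (m : Missing.{u}) : NI3.Bad.Nodes.{u} where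
  noThree := noThree g m
  noU := noU g m
  f13 := m.f13
  orth := ⟨fun _ _ h => NI3.K.OrthU.o7 h, fun _ _ h => NI3.K.OrthU.o8p h, fun _ _ h => NI3.K.OrthU.o8m h⟩

/-- the rows over `F₃` of D6 from the six small rows -/
theorem d6Three (g : Given.{u}) (m : Missing.{u}) (R : NI3.Bad.SixRows.{u}) : D6.Cut.Three.{u} :=
  NI3.Bad.three_of (nodes g m) R

/-- **Node D6** (`Z(K) = 1`) from the six small rows. -/
theorem d6z_six (g : Given.{u}) (m : Missing.{u}) (R : NI3.Bad.SixRows.{u}) : D6.Cut.D6z.{u} :=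
  D6.Final.d6z_of (facts g m) (NI3.Bad.three (nodes g m) R)

/-- **The row of D4 over `F₃`** from the row of the six small groups. -/
theorem d4_row (g : Given.{u}) (m : Missing.{u}) (h : D4.Cut.Row1.{u} (fun K _ => NI3.Bad.Small6 K)) :
    D4.Cut.Row1.{u} (fun K _ => Rk K 3) :=
  NI3.Bad.d4_three (nodes g m) h

end Cfsg.Agent.OddHalf.Top.NINode
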